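import Mathlib
import Cfsg.Prelude.Def_GeometricClasses
import Cfsg.Agent.Lib.RootCount.Orth
import Cfsg.Agent.Lib.CharTwoInv.OmegaParity
import Cfsg.Agent.Lib.Classical.Quad.Std

/-!
# Elements of orthogonal groups without fixed non-singular points, characteristic two
-/

set_option autoImplicit false
set_option linter.unusedSectionVars false

namespace CfsgLib.OrthPoints

open Matrix QuadraticMap Module Cfsg.Geo

variable {F : Type*} [Field F] [Fintype F]
variable {ι : Type} [Fintype ι] [DecidableEq ι]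

/-- Counting non-singular points through non-singular vectors. -/
theorem card_points (Qf : (ι → F) → F) (hQ : ∀ (c : F) (v : ι → F), Qf (c • v) = c * c * Qf v) :
    Nat.card {W : Submodule F (ι → F) // Module.finrank F ↥W = 1 ∧ ∃ v ∈ W, Qf v ≠ 0} *
      (Fintype.card F - 1) = Nat.card {v : ι → F // Qf v ≠ 0} := by
  classical
  rw [← Fintype.card_units, ← Nat.card_eq_fintype_card, ← Nat.card_prod]
  have h0 : Qf 0 = 0 := by
    have := hQ 0 0
    rwa [smul_zero, mul_zero, zero_mul] at this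
  have hr : ∀ W : {W : Submodule F (ι → F) // Module.finrank F ↥W = 1 ∧ ∃ v ∈ W, Qf v ≠ 0},
      ∃ v : ι → F, Qf v ≠ 0 ∧ W.1 = F ∙ v := fun W => by
    obtain ⟨v, hv, hv0⟩ := W.2.2
    refine ⟨v, hv0, (Submodule.eq_of_le_of_finrank_eq ((Submodule.span_singleton_le_iff_mem v W.1).2 hv) ?_).symm⟩
    rw [finrank_span_singleton (fun h => hv0 (by rw [h, h0])), W.2.1]
  choose rep hrep0 hrep using hr
  refine Nat.card_congr (Equiv.ofBijective (fun p => ⟨(p.2 : F) • rep p.1, by
    rw [hQ]; exact mul_ne_zero (mul_ne_zero p.2.ne_zero p.2.ne_zero) (hrep0 p.1)⟩) ⟨?_, ?_⟩)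
  · rintro ⟨W, c⟩ ⟨W', c'⟩ h
    have h' : (c : F) • rep W = (c' : F) • rep W' := congrArg Subtype.val h
    obtain rfl : W = W' := Subtype.ext (by
      rw [hrep W, hrep W', ← Submodule.span_singleton_smul_eq c.isUnit (rep W),
        ← Submodule.span_singleton_smul_eq c'.isUnit (rep W'), h'])
    have hne : rep W ≠ 0 := fun h => hrep0 W (by rw [h, h0])
    exact Prod.ext rfl (Units.ext (smul_left_injective F hne h'))
  · rintro ⟨v, hv⟩
    have hv0 : v ≠ 0 := fun h => hv (by rw [h, h0])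
    let W : {W : Submodule F (ι → F) // Module.finrank F ↥W = 1 ∧ ∃ v ∈ W, Qf v ≠ 0} :=
      ⟨F ∙ v, finrank_span_singleton hv0, v, Submodule.mem_span_singleton_self v, hv⟩
    obtain ⟨c, hc⟩ := Submodule.mem_span_singleton.1
      ((hrep W).le (Submodule.mem_span_singleton_self v))
    have hc0 : c ≠ 0 := by rintro rfl; exact hv0 (by rw [← hc, zero_smul])
    exact ⟨(W, Units.mk0 c hc0), Subtype.ext hc⟩

theorem card_nonsingular (Qf : (ι → F) → F) :
    Nat.card {v : ι → F // Qf v ≠ 0} + Nat.card {v : ι → F // Qf v = 0} =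
      Fintype.card F ^ Fintype.card ι := by
  classical
  rw [← Fintype.card_fun, Nat.card_eq_fintype_card, Nat.card_eq_fintype_card, Fintype.card_subtype_compl]
  have := Fintype.card_subtype_le (fun v : ι → F => Qf v = 0)
  omega

variable [CharP F 2] (Q : QuadraticForm F (ι → F)) (q : (ι → F) → F)

theorem eq_one_of_sq {a : F} (h : a * a = 1) : a = 1 := by
  have h2 : (a - 1) ^ 2 = 0 := by rw [sub_pow_char, one_pow, pow_two, h, sub_self]
  exact sub_eq_zero.1 ((pow_eq_zero_iff two_ne_zero).1 h2)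

/-- Fixed-point-free isometries lie in `Ω` in even dimension. -/
theorem mem_omega_of_fixedFree (hQ : Q.polarBilin.Nondegenerate)
    (P : CfsgLib.Classical.Quad.Frame Q) (hev : Even (Fintype.card ι)) (hq : ⇑Q = q)
    {x : GL ι F} (hx : ∀ v, q ((x : Matrix ι ι F) *ᵥ v) = q v)
    (hfree : ∀ v, (x : Matrix ι ι F) *ᵥ v = v → v = 0) : x ∈ omegaGL q := by
  refine ⟨⟨x, (CfsgLib.CharTwoInv.mem_iso_iff x).2 hx⟩, ?_, rfl⟩
  rw [SetLike.mem_coe, CfsgLib.CharTwoInv.omega_mem_iff Q hQ P hev q hq]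
  have hu : IsUnit ((x : Matrix ι ι F) - 1) := by
    rw [← Matrix.mulVec_injective_iff_isUnit]
    intro u v h
    change ((x : Matrix ι ι F) - 1) *ᵥ u = ((x : Matrix ι ι F) - 1) *ᵥ v at h
    rw [Matrix.sub_mulVec, Matrix.sub_mulVec, Matrix.one_mulVec, Matrix.one_mulVec,
      sub_eq_sub_iff_sub_eq_sub, ← Matrix.mulVec_sub] at h
    exact sub_eq_zero.1 (hfree _ h)
  change Even (((x : Matrix ι ι F) - 1).rank)
  rw [Matrix.rank_of_isUnit _ hu]
  exact hev

/-- A prime for which every element fixes a non-singular point admits no fixed-point-free element. -/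
theorem false_of_fixedFree (hq : ⇑Q = q) [Nonempty ι] {r : ℕ}
    (hall : ∀ x : GL ι F, x ∈ omegaGL q →
      (∃ z : F, ((x ^ r : GL ι F) : Matrix ι ι F) = z • (1 : Matrix ι ι F)) →
      (∀ z : F, (x : Matrix ι ι F) ≠ z • (1 : Matrix ι ι F)) →
      ∃ W : Submodule F (ι → F), (Module.finrank F ↥W = 1 ∧ ∃ v ∈ W, q v ≠ 0) ∧
        W.map (Matrix.toLin' (x : Matrix ι ι F)) ≤ W)
    (hne : ∃ v, q v ≠ 0) {x : GL ι F} (hmem : x ∈ omegaGL q) (hr : x ^ r = 1)
    (hx : ∀ v, q ((x : Matrix ι ι F) *ᵥ v) = q v)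
    (hfree : ∀ v, (x : Matrix ι ι F) *ᵥ v = v → v = 0) : False := by
  subst hq
  have hfix : ∀ (v : ι → F) (a : F), Q v ≠ 0 → (x : Matrix ι ι F) *ᵥ v = a • v → False := by
    intro v a hv hva
    have h := hx v
    rw [hva, QuadraticMap.map_smul, smul_eq_mul] at h
    rw [eq_one_of_sq (mul_right_cancel₀ hv (h.trans (one_mul _).symm)), one_smul] at hva
    exact hv (by rw [hfree v hva, QuadraticMap.map_zero])
  obtain ⟨v₀, hv₀⟩ := hne
  obtain ⟨W, ⟨hW, v, hv, hQv⟩, hmap⟩ := hall x hmem ⟨1, by rw [hr, one_smul]; rfl⟩ fun z hz => by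
    refine hfix v₀ z hv₀ ?_
    rw [hz, Matrix.smul_mulVec, Matrix.one_mulVec]
  have hWv : W = F ∙ v := (Submodule.eq_of_le_of_finrank_eq ((Submodule.span_singleton_le_iff_mem v W).2 hv)
    (by rw [finrank_span_singleton (fun h => hQv (by rw [h, QuadraticMap.map_zero])), hW])).symm
  obtain ⟨a, ha⟩ := Submodule.mem_span_singleton.1 (hWv.le (hmap ⟨v, hv, rfl⟩))
  exact hfix v a hQv (by rw [ha]; rfl)

/-- An element whose `2`-power is scalar is an involution. -/
theorem sq_eq_one (hne : ∃ v, Q v ≠ 0) {x : GL ι F} {z : F}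
    (hx : ∀ v, Q ((x : Matrix ι ι F) *ᵥ v) = Q v)
    (hz : ((x ^ 2 : GL ι F) : Matrix ι ι F) = z • (1 : Matrix ι ι F)) :
    (x : Matrix ι ι F) * (x : Matrix ι ι F) = 1 := by
  rw [pow_two, Units.val_mul] at hz
  obtain ⟨v, hv⟩ := hne
  have h : z = 1 := by
    refine eq_one_of_sq (mul_right_cancel₀ hv ?_)
    calc z * z * Q v = Q (z • v) := by rw [QuadraticMap.map_smul, smul_eq_mul]
      _ = Q (((x : Matrix ι ι F) * (x : Matrix ι ι F)) *ᵥ v) := by rw [hz, Matrix.smul_mulVec, Matrix.one_mulVec]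
      _ = Q v := by rw [← Matrix.mulVec_mulVec, hx, hx]
      _ = 1 * Q v := (one_mul _).symm
  rw [hz, h, one_smul]

/-- The structure of an involution whose fixed space is totally singular. -/
theorem totally_singular_fixed (hnd : Q.polarBilin.Nondegenerate) {n : ℕ}
    (hdim : Fintype.card ι = 2 * n) {x : GL ι F}
    (hx : ∀ v, Q ((x : Matrix ι ι F) *ᵥ v) = Q v)
    (hxx : (x : Matrix ι ι F) * (x : Matrix ι ι F) = 1)
    (hts : ∀ v, (x : Matrix ι ι F) *ᵥ v = v → Q v = 0) :
    CfsgLib.RootCount.IsPlus Q ∧ Even n := by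
  classical
  have hnd' : CfsgLib.Classical.Quad.NDPolar Q := fun u hu => hnd.1 u hu
  set T : Module.End F (ι → F) := Matrix.toLin' (x : Matrix ι ι F) - 1 with hT
  set K := LinearMap.ker T with hK
  have hTapp : ∀ v, T v = (x : Matrix ι ι F) *ᵥ v - v := fun v => rfl
  have hKQ : ∀ v ∈ K, Q v = 0 := fun v hv => hts v (sub_eq_zero.1 ((hTapp v).symm.trans hv))
  have hKK : ∀ u ∈ K, ∀ v ∈ K, polar Q u v = 0 := fun u hu v hv => by
    rw [polar, hKQ _ (K.add_mem hu hv), hKQ _ hu, hKQ _ hv]; ring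
  have hTT : ∀ v, T (T v) = 0 := fun v => by
    simp only [hTapp, Matrix.mulVec_sub, Matrix.mulVec_mulVec, hxx, Matrix.one_mulVec]
    funext i
    simp only [Pi.sub_apply, Pi.zero_apply]
    linear_combination (v i - ((x : Matrix ι ι F) *ᵥ v) i) * (CharTwo.two_eq_zero : (2 : F) = 0)
  have hrange : LinearMap.range T ≤ K := by rintro _ ⟨v, rfl⟩; exact hTT v
  have hrn := LinearMap.finrank_range_add_finrank_ker T
  rw [Module.finrank_fintype_fun_eq_card, hdim, ← hK] at hrn
  have hle := Submodule.finrank_mono hrange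
  have horth := CfsgLib.Orth.finrank_polar_orthogonal hnd' K
  have hKle : K ≤ LinearMap.BilinForm.orthogonal (polarBilin Q) K := fun v hv u hu => hKK u hu v hv
  have hle2 := Submodule.finrank_mono hKle
  rw [horth, Module.finrank_fintype_fun_eq_card, hdim] at hle2
  have hKn : finrank F K = n := by omega
  refine ⟨⟨K, hKQ, by rw [Module.finrank_fintype_fun_eq_card, hdim, hKn]⟩, ?_⟩
  have hrK : LinearMap.range T = K := Submodule.eq_of_le_of_finrank_le hrange (by omega)
  -- the form `(u, v) ↦ (u, T v)` is alternating with radical `K`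
  let B : LinearMap.BilinForm F (ι → F) := (polarBilin Q).compl₂ T
  have hB : ∀ u v, B u v = polar Q u (T v) := fun u v => rfl
  have halt : B.IsAlt := fun v => by
    rw [hB]
    have h1 := hx v
    rw [show (x : Matrix ι ι F) *ᵥ v = v + T v by rw [hTapp]; abel, QuadraticMap.map_add (⇑Q),
      hKQ _ (hrange ⟨v, rfl⟩), add_zero] at h1
    simpa using h1
  obtain ⟨C, hC⟩ := Submodule.exists_isCompl K
  have hCn : finrank F C = n := by
    have := Submodule.finrank_add_eq_of_isCompl hC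
    rw [Module.finrank_fintype_fun_eq_card, hdim, hKn] at this
    omega
  obtain ⟨m, k, b, hmk, hspan, -, -, -, hrad⟩ := CfsgLib.Forms.exists_symplectic_family B halt n C hCn
  suffices k = 0 by subst this; exact ⟨m, by omega⟩
  by_contra hk0
  let j : Fin k := ⟨0, Nat.pos_of_ne_zero hk0⟩
  have hbC : b (.inr j) ∈ C := hspan ▸ Submodule.subset_span ⟨_, rfl⟩
  have hbK : b (.inr j) ∈ K := by
    have h1 : b (.inr j) ∈ LinearMap.BilinForm.orthogonal (polarBilin Q) K := by
      rw [← hrK]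
      rintro _ ⟨v, rfl⟩
      obtain ⟨v₁, hv₁, v₂, hv₂, rfl⟩ := Submodule.mem_sup.1
        ((codisjoint_iff.1 hC.codisjoint).ge (Submodule.mem_top : v ∈ ⊤))
      show polar Q (T (v₁ + v₂)) (b (.inr j)) = 0
      rw [map_add, LinearMap.mem_ker.1 hv₁, zero_add, polar_comm]
      exact hrad j v₂ hv₂
    rwa [← Submodule.eq_of_le_of_finrank_le hKle (by
      rw [horth, Module.finrank_fintype_fun_eq_card, hdim]; omega)] at h1
  have hb0 : b (.inr j) = 0 := Submodule.disjoint_def.1 hC.disjoint _ hbK hbC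
  have hli : LinearIndependent F b := linearIndependent_iff_card_le_finrank_span.2 (by
    rw [Set.finrank, hspan, hCn]
    simp only [Fintype.card_sum, Fintype.card_fin]
    omega)
  exact hli.ne_zero (.inr j) hb0

end CfsgLib.OrthPoints
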