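import Mathlib
import Cfsg.Agent.Lib.OrthPoints.Basic

/-!
# Fixed-point-free and maximally degenerate elements of the standard orthogonal groups
-/

set_option autoImplicit false
set_option linter.unusedSectionVars false

namespace CfsgLib.OrthPoints

open Matrix QuadraticMap Module CfsgLib.Classical.Quad

variable {F : Type*} [Field F] [Fintype F]

theorem card_zeros_quadFormPlus (d : ℕ) :
    Nat.card {v : Fin d ⊕ Fin d → F // Cfsg.quadFormPlus d F v = 0} =
      (Fintype.card F ^ d - 1) * Fintype.card F ^ (d - 1) + Fintype.card F ^ d := by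
  rw [Nat.card_congr ((plusEquiv d F).toEquiv.subtypeEquiv
    (q := fun w => hypForm d (zeroKernel F) w = 0) fun v => by
      show _ ↔ hypForm d (zeroKernel F) (plusEquiv d F v) = 0
      rw [plusEquiv_spec]), card_level_hypForm, card_zeros_zeroKernel]
  simp [Nat.card_eq_fintype_card]

/-- The split torus: a fixed-point-free element of order `r` preserving the plus form. -/
theorem exists_fixedFree_plus [CharP F 2] (d : ℕ) (hd : 0 < d) {r : ℕ} [Fact r.Prime]
    (hrq : r ∣ Fintype.card F ^ d - 1) :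
    ∃ x : GL (Fin d ⊕ Fin d) F, x ^ r = 1 ∧
      (∀ v, Cfsg.quadFormPlus d F ((x : Matrix (Fin d ⊕ Fin d) (Fin d ⊕ Fin d) F) *ᵥ v) =
        Cfsg.quadFormPlus d F v) ∧
      ∀ v, (x : Matrix (Fin d ⊕ Fin d) (Fin d ⊕ Fin d) F) *ᵥ v = v → v = 0 := by
  classical
  have hr := (Fact.out : r.Prime)
  haveI : NeZero d := ⟨by omega⟩
  let L := FiniteField.Extension F 2 d
  haveI := Fintype.ofFinite L
  obtain ⟨ζ, hζ⟩ := exists_prime_orderOf_dvd_card' (G := Lˣ) r (by
    rw [Nat.card_units, FiniteField.natCard_extension, Nat.card_eq_fintype_card]; exact hrq)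
  let bL := Module.finBasisOfFinrankEq F L (FiniteField.finrank_extension F 2 d)
  let A : Matrix (Fin d) (Fin d) F := LinearMap.toMatrixAlgEquiv bL (Algebra.lmul F L (ζ : L))
  have hAr : A ^ r = 1 := by
    rw [← map_pow, ← map_pow, ← Units.val_pow_eq_pow_val, ← hζ, pow_orderOf_eq_one, Units.val_one,
      map_one, map_one]
  have hA1 : IsUnit (A - 1) := by
    have hne1 : (ζ : L) - 1 ≠ 0 := by
      rw [sub_ne_zero, Ne, Units.val_eq_one]
      rintro rfl; rw [orderOf_one] at hζ; exact hr.one_lt.ne hζ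
    have : A - 1 = LinearMap.toMatrixAlgEquiv bL (Algebra.lmul F L ((ζ : L) - 1)) := by
      rw [map_sub, map_sub, map_one, map_one]
    rw [this]
    exact (((isUnit_iff_ne_zero).2 hne1).map (Algebra.lmul F L)).map (LinearMap.toMatrixAlgEquiv bL)
  let B := A ^ (r - 1)
  have hBA : B * A = 1 := by rw [← pow_succ, Nat.sub_add_cancel hr.one_le, hAr]
  have hAB : A * B = 1 := by rw [← pow_succ', Nat.sub_add_cancel hr.one_le, hAr]
  have hBr : B ^ r = 1 := by rw [← pow_mul, mul_comm, pow_mul, hAr, one_pow]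
  refine ⟨⟨fromBlocks A 0 0 Bᵀ, fromBlocks B 0 0 Aᵀ,
      by simp [fromBlocks_multiply, ← transpose_mul, hAB, fromBlocks_one],
      by simp [fromBlocks_multiply, ← transpose_mul, hBA, fromBlocks_one]⟩, ?_, fun v => ?_, fun v hv => ?_⟩
  · apply Units.ext
    rw [Units.val_pow_eq_pow_val]
    show (fromBlocks A 0 0 Bᵀ) ^ r = 1
    rw [fromBlocks_diagonal_pow, hAr, ← transpose_pow, hBr, transpose_one, fromBlocks_one]
  · show Cfsg.quadFormPlus d F (fromBlocks A 0 0 Bᵀ *ᵥ v) = _
    rw [fromBlocks_mulVec, zero_mulVec, zero_mulVec, add_zero, zero_add]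
    show (A *ᵥ (v ∘ Sum.inl)) ⬝ᵥ (Bᵀ *ᵥ (v ∘ Sum.inr)) = (v ∘ Sum.inl) ⬝ᵥ (v ∘ Sum.inr)
    rw [mulVec_transpose, dotProduct_comm, ← dotProduct_mulVec, mulVec_mulVec, hBA, one_mulVec,
      dotProduct_comm]
  · change fromBlocks A 0 0 Bᵀ *ᵥ v = v at hv
    rw [fromBlocks_mulVec, zero_mulVec, zero_mulVec, add_zero, zero_add] at hv
    have hinj := Matrix.mulVec_injective_iff_isUnit.2 hA1
    have h1 : A *ᵥ (v ∘ Sum.inl) = v ∘ Sum.inl := funext fun i => congrFun hv (.inl i)
    have h2 : Bᵀ *ᵥ (v ∘ Sum.inr) = v ∘ Sum.inr := funext fun i => congrFun hv (.inr i)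
    have h2' : Aᵀ *ᵥ (v ∘ Sum.inr) = v ∘ Sum.inr := by
      conv_lhs => rw [← h2]
      rw [mulVec_mulVec, ← transpose_mul, hBA, transpose_one, one_mulVec]
    have hinjT := Matrix.mulVec_injective_iff_isUnit.2 ((Matrix.isUnit_transpose (A - 1)).2 hA1)
    have e1 : v ∘ Sum.inl = 0 := hinj (show (A - 1) *ᵥ _ = (A - 1) *ᵥ 0 by
      rw [sub_mulVec, one_mulVec, h1, sub_self, mulVec_zero])
    have e2 : v ∘ Sum.inr = 0 := hinjT (show (A - 1)ᵀ *ᵥ _ = (A - 1)ᵀ *ᵥ 0 by
      rw [transpose_sub, transpose_one, sub_mulVec, one_mulVec, h2', sub_self, mulVec_zero])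
    funext k
    rcases k with i | i
    · exact congrFun e1 i
    · exact congrFun e2 i

/-- An isometry of odd order of an anisotropic binary form in characteristic two fixing a non-zero
vector is trivial. -/
theorem binForm_fixed {L : Type*} [Field L] [Fintype L] [CharP L 2] {a b : L} (hab : IsAniso a b)
    (g : Orth (binForm a b)) {r : ℕ} (hr : Odd r) (hgr : g ^ r = 1) {v : Fin 2 → L} (hv : v ≠ 0)
    (hgv : g.1 v = v) : g = 1 := by
  have hvv : QuadraticMap.polar (binForm a b) v v = 0 := by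
    rw [polar_self', CharTwo.two_eq_zero, zero_mul]
  have hgg : g * g = 1 := by
    refine orth_ext fun w => ?_
    have hmem : ∀ u, QuadraticMap.polar (binForm a b) v u = 0 → ∃ s : L, u = s • v := fun u hu => by
      by_contra hcon
      push Not at hcon
      have hli : LinearIndependent L ![v, u] :=
        (linearIndependent_fin2).2 ⟨fun h => hcon 0 (by rw [zero_smul]; exact h), fun s h => by
          simp at h
          rcases eq_or_ne s 0 with rfl | hs
          · exact hv (by rw [← h, zero_smul])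
          · exact hcon s⁻¹ (by rw [← h, inv_smul_smul₀ hs])⟩
      refine hv (ndPolar_binForm hab v fun y => ?_)
      have hy : y ∈ Submodule.span L (Set.range ![v, u]) := by
        rw [hli.span_eq_top_of_card_eq_finrank (by simp)]; trivial
      obtain ⟨c, rfl⟩ := (Submodule.mem_span_range_iff_exists_fun L).1 hy
      rw [Fin.sum_univ_two, QuadraticMap.polar_add_right, QuadraticMap.polar_smul_right,
        QuadraticMap.polar_smul_right]
      simp [hvv, hu]
    have hpol : QuadraticMap.polar (binForm a b) v (g.1 w - w) = 0 := by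
      rw [QuadraticMap.polar_sub_right]
      nth_rw 1 [← hgv]
      rw [orth_polar, sub_self]
    obtain ⟨s, hs⟩ := hmem _ hpol
    rw [CfsgLib.Classical.Quad.mul_apply, CfsgLib.Classical.Quad.one_apply,
      show g.1 w = w + s • v by rw [← hs]; abel, map_add, map_smul, hgv,
      show g.1 w = w + s • v by rw [← hs]; abel, add_assoc, ← add_smul, CharTwo.add_self_eq_zero,
      zero_smul, add_zero]
  obtain ⟨j, rfl⟩ := hr
  rwa [pow_succ, pow_mul, pow_two, hgg, one_pow, one_mul] at hgr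

/-- The elliptic torus: a fixed-point-free element of order `r` preserving the minus form. -/
theorem exists_fixedFree_minus [CharP F 2] (k : ℕ) {a b : F} (hab : IsAniso a b) {r : ℕ} [Fact r.Prime]
    (hr2 : r ≠ 2) (hrq : r ∣ Fintype.card F ^ (k + 1) + 1) :
    ∃ x : GL ((Fin k ⊕ Fin k) ⊕ Fin 2) F, x ^ r = 1 ∧
      (∀ v, Cfsg.quadFormMinus k F a b
          ((x : Matrix ((Fin k ⊕ Fin k) ⊕ Fin 2) ((Fin k ⊕ Fin k) ⊕ Fin 2) F) *ᵥ v) =
        Cfsg.quadFormMinus k F a b v) ∧
      ∀ v, (x : Matrix ((Fin k ⊕ Fin k) ⊕ Fin 2) ((Fin k ⊕ Fin k) ⊕ Fin 2) F) *ᵥ v = v → v = 0 := by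
  classical
  have hr := (Fact.out : r.Prime)
  set q := Fintype.card F with hq
  have hq2 : 2 ≤ q := Fintype.one_lt_card
  let L := FiniteField.Extension F 2 (k + 1)
  haveI := Fintype.ofFinite L
  haveI : CharP L 2 := charP_of_injective_algebraMap (algebraMap F L).injective 2
  have hL : Fintype.card L = q ^ (k + 1) := by
    rw [← Nat.card_eq_fintype_card, FiniteField.natCard_extension, Nat.card_eq_fintype_card]
  obtain ⟨a', b', hab'⟩ := CfsgLib.RootCount.exists_aniso (F := L)
  have hab'' : IsAniso a' b' := hab'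
  haveI : Finite (Orth (binForm a' b')) :=
    Nat.finite_of_card_ne_zero (by rw [card_orth_binForm hab'']; omega)
  obtain ⟨g, hg⟩ := exists_prime_orderOf_dvd_card' (G := Orth (binForm a' b')) r (by
    rw [card_orth_binForm hab'', hL]; exact dvd_mul_of_dvd_right hrq 2)
  let tr : L →ₗ[F] F := Algebra.trace F L
  let QK : QuadraticForm F (Fin 2 → L) := tr.compQuadraticMap' (binForm a' b')
  have hpolK : ∀ u v, QuadraticMap.polar QK u v = tr (QuadraticMap.polar (binForm a' b') u v) :=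
    fun u v => LinearMap.compQuadraticMap_polar _ _ u v
  have htrnd : ∀ y : L, (∀ c : L, tr (c * y) = 0) → y = 0 := fun y hy =>
    (traceForm_nondegenerate F L).1 y fun c => by
      rw [Algebra.traceForm_apply, mul_comm]; exact hy c
  have hKnd : NDPolar QK := fun u hu => ndPolar_binForm hab'' u fun v => htrnd _ fun c => by
    have := hu (c • v)
    rwa [hpolK, QuadraticMap.polar_smul_right, smul_eq_mul] at this
  have hKdim : Module.finrank F (Fin 2 → L) = 2 * (k + 1) := by
    rw [Module.finrank_pi_fintype, Finset.sum_const, Finset.card_univ, Fintype.card_fin, smul_eq_mul,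
      FiniteField.finrank_extension]
  have hzeros : Nat.card {v : Fin 2 → L // QK v = 0} = 1 + (q ^ k - 1) * (q ^ (k + 1) + 1) := by
    let e : {v : Fin 2 → L // QK v = 0} ≃ Σ c : LinearMap.ker tr, {v : Fin 2 → L // binForm a' b' v = (c : L)} :=
      { toFun := fun v => ⟨⟨binForm a' b' v.1, v.2⟩, v.1, rfl⟩
        invFun := fun s => ⟨s.2.1, by show tr (binForm a' b' s.2.1) = 0; rw [s.2.2]; exact s.1.2⟩
        left_inv := fun _ => rfl
        right_inv := fun ⟨⟨c, hc⟩, v, hv⟩ => by cases hv; rfl }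
    haveI := Fintype.ofFinite (LinearMap.ker tr)
    rw [Nat.card_congr e, Nat.card_sigma, ← Finset.add_sum_erase _ _ (Finset.mem_univ 0)]
    rw [ZeroMemClass.coe_zero, card_zeros_binForm hab'', Finset.sum_congr rfl (fun c hc =>
      card_level_binForm hab'' (fun h => Finset.ne_of_mem_erase hc (Subtype.ext h))),
      Finset.sum_const, Finset.card_erase_of_mem (Finset.mem_univ _), Finset.card_univ, smul_eq_mul,
      hL]
    have hker : Fintype.card (LinearMap.ker tr) = q ^ k := by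
      have hr1 : Module.finrank F (LinearMap.range tr) = 1 := by
        rw [LinearMap.range_eq_top.2 (LinearMap.surjective fun h => one_ne_zero (α := L)
          (htrnd 1 fun c => by rw [h]; rfl)), finrank_top, Module.finrank_self]
      have := LinearMap.finrank_range_add_finrank_ker tr
      rw [hr1, FiniteField.finrank_extension] at this
      rw [Module.card_eq_pow_finrank (K := F), ← hq, show Module.finrank F (LinearMap.ker tr) = k by omega]
    rw [hker]
  obtain ⟨E, hE⟩ : ∃ E : ((Fin k ⊕ Fin k) ⊕ Fin 2 → F) ≃ₗ[F] (Fin 2 → L),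
      ∀ v, QK (E v) = Cfsg.quadFormMinus k F a b v := by
    rcases CfsgLib.RootCount.classify_even QK hKnd hKdim (a := a) (c := b) hab with
      ⟨-, E, hE⟩ | ⟨-, k', hk', E, hE⟩
    · exfalso
      have h := card_zeros_quadFormPlus (F := F) (k + 1)
      rw [Nat.card_congr (E.toEquiv.subtypeEquiv (p := fun v => Cfsg.quadFormPlus (k + 1) F v = 0)
        (q := fun w => QK w = 0) fun v => by
          show _ ↔ QK (E v) = 0
          rw [hE]; rfl), hzeros, Nat.add_sub_cancel, ← hq] at h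
      obtain ⟨c, hc⟩ : ∃ c, q ^ k = c := ⟨_, rfl⟩
      rw [pow_succ, hc] at h
      have hc1 : 1 ≤ c := hc ▸ Nat.one_le_pow _ _ (by omega)
      obtain ⟨c', rfl⟩ : ∃ c', c = c' + 1 := ⟨c - 1, by omega⟩
      obtain ⟨q', hq'⟩ : ∃ q', q = q' + 2 := ⟨q - 2, by omega⟩
      rw [hq', show c' + 1 - 1 = c' by omega,
        show (c' + 1) * (q' + 2) - 1 = (c' * q' + 2 * c' + q') + 1 by ring_nf; omega] at h
      ring_nf at h
      omega
    · obtain rfl : k = k' := by omega
      exact ⟨E, fun v => by rw [hE]; rfl⟩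
  let φ : Orth (binForm a' b') →* (((Fin k ⊕ Fin k) ⊕ Fin 2 → F) →ₗ[F] ((Fin k ⊕ Fin k) ⊕ Fin 2 → F)) :=
    { toFun := fun h => E.symm.toLinearMap ∘ₗ ((h.1 : (Fin 2 → L) →ₗ[L] (Fin 2 → L)).restrictScalars F) ∘ₗ E.toLinearMap
      map_one' := LinearMap.ext fun v => by simp
      map_mul' := fun h h' => LinearMap.ext fun v => by simp [Module.End.mul_apply] }
  let ψ : Orth (binForm a' b') →* GL ((Fin k ⊕ Fin k) ⊕ Fin 2) F :=
    ((LinearMap.toMatrixAlgEquiv' (R := F) (n := (Fin k ⊕ Fin k) ⊕ Fin 2)).toMonoidHom.comp φ).toHomUnits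
  have hxv : ∀ v, ((ψ g : GL ((Fin k ⊕ Fin k) ⊕ Fin 2) F) :
      Matrix ((Fin k ⊕ Fin k) ⊕ Fin 2) ((Fin k ⊕ Fin k) ⊕ Fin 2) F) *ᵥ v = E.symm (g.1 (E v)) := fun v => by
    rw [← Matrix.toLin'_apply]
    show Matrix.toLin' (LinearMap.toMatrix' (φ g)) v = _
    rw [Matrix.toLin'_toMatrix']
    rfl
  refine ⟨ψ g, by rw [← map_pow, ← hg, pow_orderOf_eq_one, map_one], fun v => ?_, fun v hv => ?_⟩
  · rw [hxv, ← hE, ← hE, LinearEquiv.apply_symm_apply]
    show tr (binForm a' b' (g.1 (E v))) = tr (binForm a' b' (E v))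
    rw [orth_Q]
  · rw [hxv, LinearEquiv.symm_apply_eq] at hv
    by_contra hv0
    have := binForm_fixed hab'' g (hr.odd_of_ne_two hr2) (hg ▸ pow_orderOf_eq_one g)
      (fun h => hv0 (E.map_eq_zero_iff.1 h)) hv
    rw [this, orderOf_one] at hg
    exact hr.one_lt.ne hg

/-- In half dimension even the plus form has an involution moving half the space onto a totally
singular subspace. -/
theorem exists_degenerate_involution [CharP F 2] {d : ℕ} (hd : Even d) :
    ∃ (x : GL (Fin d ⊕ Fin d) F) (K : Submodule F (Fin d ⊕ Fin d → F)), x * x = 1 ∧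
      (∀ v, Cfsg.quadFormPlus d F ((x : Matrix (Fin d ⊕ Fin d) (Fin d ⊕ Fin d) F) *ᵥ v) =
        Cfsg.quadFormPlus d F v) ∧
      Module.finrank F K = d ∧ (∀ v ∈ K, Cfsg.quadFormPlus d F v = 0) ∧
      ∀ v ∈ K, ∃ w, v = (x : Matrix (Fin d ⊕ Fin d) (Fin d ⊕ Fin d) F) *ᵥ w - w := by
  classical
  let σ : Equiv.Perm (Fin d) := Fin.revPerm
  let S : Matrix (Fin d) (Fin d) F := σ.permMatrix F
  have hS : ∀ w, S *ᵥ w = w ∘ σ := fun w => by
    funext i; simp [S, Equiv.Perm.permMatrix, Matrix.mulVec, dotProduct, PEquiv.toMatrix_apply]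
  have hSS : S + S = 0 := by ext i j; exact CharTwo.add_self_eq_zero _
  let x : GL (Fin d ⊕ Fin d) F :=
    ⟨fromBlocks 1 S 0 1, fromBlocks 1 S 0 1,
      by simp [fromBlocks_multiply, fromBlocks_one, hSS],
      by simp [fromBlocks_multiply, fromBlocks_one, hSS]⟩
  have hxv : ∀ v : Fin d ⊕ Fin d → F, (x : Matrix (Fin d ⊕ Fin d) (Fin d ⊕ Fin d) F) *ᵥ v =
      Sum.elim ((v ∘ Sum.inl) + (v ∘ Sum.inr) ∘ σ) (v ∘ Sum.inr) := fun v => by
    show fromBlocks 1 S 0 1 *ᵥ v = _
    rw [fromBlocks_mulVec, one_mulVec, one_mulVec, zero_mulVec, zero_add, hS]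
  let L : (Fin d → F) →ₗ[F] (Fin d ⊕ Fin d → F) :=
    (LinearEquiv.sumArrowLequivProdArrow (Fin d) (Fin d) F F).symm.toLinearMap ∘ₗ
      LinearMap.inl F (Fin d → F) (Fin d → F)
  refine ⟨x, LinearMap.range L, ?_, fun v => ?_, ?_, ?_, ?_⟩
  · apply Units.ext
    show fromBlocks 1 S 0 1 * fromBlocks 1 S 0 1 = 1
    simp [fromBlocks_multiply, fromBlocks_one, hSS]
  · rw [hxv]
    simp only [Cfsg.quadFormPlus, Sum.elim_inl, Sum.elim_inr, Pi.add_apply, Function.comp_apply,
      add_mul, Finset.sum_add_distrib]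
    refine add_eq_left.2 (Finset.sum_involution (fun i _ => σ i) ?_ ?_ (fun i _ => Finset.mem_univ _)
      fun i _ => ?_)
    · intro i _
      simp only [σ, Fin.revPerm_apply, Fin.rev_rev]
      rw [mul_comm (v (Sum.inr i))]
      exact CharTwo.add_self_eq_zero _
    · intro i _ _ h
      have := congrArg Fin.val h
      simp [σ, Fin.val_rev] at this
      obtain ⟨e, he⟩ := hd
      omega
    · simp [σ]
  · rw [LinearMap.finrank_range_of_inj (f := L)
      ((LinearEquiv.sumArrowLequivProdArrow (Fin d) (Fin d) F F).symm.injective.comp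
        (LinearMap.inl_injective (R := F) (M := Fin d → F) (M₂ := Fin d → F)))]
    simp
  · rintro _ ⟨u, rfl⟩
    simp [L, Cfsg.quadFormPlus]
  · rintro _ ⟨u, rfl⟩
    refine ⟨Sum.elim 0 (u ∘ σ), ?_⟩
    rw [hxv]
    funext k
    rcases k with i | i <;> simp [L, σ]

end CfsgLib.OrthPoints
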