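import Mathlib
import Cfsg.Agent.Lib.OrthPoints.Models

/-!
# Quadratic forms with a prescribed polar form in characteristic two
-/

set_option autoImplicit false
set_option linter.unusedSectionVars false

namespace CfsgLib.OrthPoints

open QuadraticMap Module CfsgLib.Classical.Quad CfsgLib.RootCount

variable {F : Type*} [Field F] [Fintype F] [CharP F 2]
variable {V : Type*} [AddCommGroup V] [Module F V] [FiniteDimensional F V]

omit [Fintype F] [FiniteDimensional F V] in
/-- `Q + polar(u, ·)²`. -/
def shift (Q : QuadraticForm F V) (u : V) : QuadraticForm F V :=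
  Q + linMulLin (polarBilin Q u) (polarBilin Q u)

theorem shift_apply (Q : QuadraticForm F V) (u v : V) :
    shift Q u v = Q v + polar Q u v * polar Q u v := rfl

theorem polar_shift (Q : QuadraticForm F V) (u v w : V) :
    polar (shift Q u) v w = polar Q v w := by
  show shift Q u (v + w) - shift Q u v - shift Q u w = _
  rw [shift_apply, shift_apply, shift_apply, polar_add_right, QuadraticMap.map_add (⇑Q)]
  linear_combination ((polar Q u v) * (polar Q u w)) * (CharTwo.two_eq_zero : (2 : F) = 0)

theorem exists_sqrt (a : F) : ∃ s, s * s = a := by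
  obtain ⟨s, hs⟩ := FiniteField.isSquare_of_char_two (ringChar.eq F 2) a
  exact ⟨s, hs.symm⟩

theorem isPlus_plusForm (d : ℕ) : IsPlus (CfsgLib.OrthCrit.plusForm d F) := by
  refine ⟨LinearMap.range ((LinearEquiv.sumArrowLequivProdArrow (Fin d) (Fin d) F F).symm.toLinearMap ∘ₗ
    LinearMap.inl F (Fin d → F) (Fin d → F)), ?_, ?_⟩
  · rintro _ ⟨u, rfl⟩
    simp [Cfsg.quadFormPlus]
  · rw [LinearMap.finrank_range_of_inj (f := (LinearEquiv.sumArrowLequivProdArrow (Fin d) (Fin d) F F).symm.toLinearMap ∘ₗ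
      LinearMap.inl F (Fin d → F) (Fin d → F))
      ((LinearEquiv.sumArrowLequivProdArrow (Fin d) (Fin d) F F).symm.injective.comp
        (LinearMap.inl_injective (R := F) (M := Fin d → F) (M₂ := Fin d → F)))]
    simp [two_mul]

/-- A non-singular vector flips the type. -/
theorem exists_shift (Q : QuadraticForm F V) (hnd : NDPolar Q) {k : ℕ}
    (hdim : finrank F V = 2 * (k + 1)) {w : V} (hw : Q w ≠ 0) :
    ∃ μ : F, IsPlus (shift Q (μ • w)) ↔ ¬ IsPlus Q := by
  classical
  obtain ⟨α, β, hab⟩ := exists_aniso (F := F)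
  have hα : α ≠ 0 := CfsgLib.OrthCrit.a_ne_zero_of_anisotropic hab CharTwo.two_eq_zero
  have hβ : β ≠ 0 := fun h => one_ne_zero (hab 0 1 (by rw [h]; ring)).2
  have h2 : (2 : F) = 0 := CharTwo.two_eq_zero
  rcases classify_even Q hnd hdim (a := α) (c := β) hab with ⟨hp, E, hE⟩ | ⟨hp, k', hk', E, hE⟩
  · -- from plus type to minus type
    let i0 : Fin (k + 1) := 0
    let v₀ : Fin (k + 1) ⊕ Fin (k + 1) → F := Pi.single (.inl i0) (Q w) + Pi.single (.inr i0) 1
    have hv₀ : Cfsg.quadFormPlus (k + 1) F v₀ = Q w := by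
      simp [v₀, Cfsg.quadFormPlus, Pi.single_apply, i0]
    obtain ⟨g, hg⟩ := CfsgLib.Orth.exists_map_of_Q_eq hnd (v := E v₀) (w := w)
      (by rw [hE, CfsgLib.OrthCrit.plusForm_apply, hv₀]; exact hw) (by rw [hE]; exact hv₀)
    let G : (Fin (k + 1) ⊕ Fin (k + 1) → F) ≃ₗ[F] V := E.trans g.1
    have hG : ∀ v, Q (G v) = CfsgLib.OrthCrit.plusForm (k + 1) F v := fun v => by
      rw [LinearEquiv.trans_apply, orth_Q, hE]
    have hGw : G v₀ = w := hg
    have hpol : ∀ v, polar Q w (G v) = Q w * v (.inr i0) + v (.inl i0) := fun v => by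
      rw [← hGw]
      simp only [polar, ← map_add, hG]
      simp only [CfsgLib.OrthCrit.plusForm_apply, hv₀, hG, hGw]
      rw [show Cfsg.quadFormPlus (k + 1) F (v₀ + v) - Q w - Cfsg.quadFormPlus (k + 1) F v =
        polar (⇑(CfsgLib.OrthCrit.plusForm (k + 1) F)) v₀ v by rw [← hv₀]; rfl,
        CfsgLib.OrthCrit.polar_plusForm]
      simp [v₀, Pi.single_apply, i0, Finset.sum_add_distrib, add_mul]
    obtain ⟨t₁, ht₁⟩ := exists_sqrt (β / (Q w * Q w * α * α))
    obtain ⟨μ, hμ⟩ := exists_sqrt t₁
    have hμ4 : μ ^ 4 * (Q w * Q w * α * α) = β := by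
      rw [show μ ^ 4 = (μ * μ) * (μ * μ) by ring, hμ, ht₁,
        div_mul_cancel₀ _ (mul_ne_zero (mul_ne_zero (mul_ne_zero hw hw) hα) hα)]
    have hμ0 : μ ≠ 0 := by rintro rfl; exact hβ (by rw [← hμ4]; ring)
    refine ⟨μ, iff_of_false (fun hplus => not_isPlus_minus (a := α) (c := β) hab k ?_) (not_not_intro hp)⟩
    let L : ((Fin k ⊕ Fin k) ⊕ Fin 2 → F) →ₗ[F] (Fin (k + 1) ⊕ Fin (k + 1) → F) :=
      { toFun := fun v => Sum.elim (Fin.cons (μ⁻¹ * v (.inr 0)) fun i => v (.inl (.inl i)))
          (Fin.cons (α * μ * v (.inr 1)) fun i => v (.inl (.inr i)))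
        map_add' := fun u v => by
          funext x
          rcases x with i | i <;> refine Fin.cases ?_ (fun i => ?_) i <;> simp [mul_add]
        map_smul' := fun s v => by
          funext x
          rcases x with i | i <;> refine Fin.cases ?_ (fun i => ?_) i <;> simp [mul_left_comm] }
    have hL : Function.Injective L := by
      rw [injective_iff_map_eq_zero]
      intro v hv
      funext x
      rcases x with (i | i) | i
      · simpa [L] using congrFun hv (.inl i.succ)
      · simpa [L] using congrFun hv (.inr i.succ)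
      · fin_cases i
        · simpa [L, hμ0] using congrFun hv (.inl 0)
        · simpa [L, hμ0, hα] using congrFun hv (.inr 0)
    let M := (L.linearEquivOfInjective hL (by simp; ring)).trans G
    refine isPlus_congr _ _ M.symm (fun x => ?_) hplus
    obtain ⟨v, rfl⟩ := M.surjective x
    rw [LinearEquiv.symm_apply_apply]
    show _ = shift Q (μ • w) (G (L v))
    rw [shift_apply, polar_smul_left, hpol, hG, smul_eq_mul]
    simp only [CfsgLib.OrthCrit.minusForm_apply, CfsgLib.OrthCrit.plusForm_apply, Cfsg.quadFormMinus,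
      Cfsg.quadFormPlus, Fin.sum_univ_succ, L, LinearMap.coe_mk, AddHom.coe_mk, Sum.elim_inl,
      Sum.elim_inr, Fin.cons_zero, Fin.cons_succ, i0]
    field_simp
    linear_combination (-(v (.inr 1)) ^ 2) * hμ4 - (Q w * α * μ ^ 2 * v (.inr 0) * v (.inr 1)) * h2
  · -- from minus type to plus type
    obtain rfl : k = k' := by omega
    obtain ⟨s, hs⟩ := exists_sqrt (Q w)
    have hs0 : s ≠ 0 := fun h => hw (by rw [← hs, h, mul_zero])
    let v₀ : (Fin k ⊕ Fin k) ⊕ Fin 2 → F := Pi.single (.inr 0) s
    have hv₀ : Cfsg.quadFormMinus k F α β v₀ = Q w := by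
      simp [v₀, Cfsg.quadFormMinus, Pi.single_apply, ← hs, pow_two]
    obtain ⟨g, hg⟩ := CfsgLib.Orth.exists_map_of_Q_eq hnd (v := E v₀) (w := w)
      (by rw [hE, CfsgLib.OrthCrit.minusForm_apply, hv₀]; exact hw) (by rw [hE]; exact hv₀)
    let G : ((Fin k ⊕ Fin k) ⊕ Fin 2 → F) ≃ₗ[F] V := E.trans g.1
    have hG : ∀ v, Q (G v) = CfsgLib.OrthCrit.minusForm k F α β v := fun v => by
      rw [LinearEquiv.trans_apply, orth_Q, hE]
    have hGw : G v₀ = w := hg
    have hpol : ∀ v, polar Q w (G v) = α * s * v (.inr 1) := fun v => by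
      rw [← hGw]
      simp only [polar, ← map_add, hG]
      simp only [CfsgLib.OrthCrit.minusForm_apply, hv₀, hG, hGw]
      rw [show Cfsg.quadFormMinus k F α β (v₀ + v) - Q w - Cfsg.quadFormMinus k F α β v =
        polar (⇑(CfsgLib.OrthCrit.minusForm k F α β)) v₀ v by rw [← hv₀]; rfl,
        CfsgLib.OrthCrit.polar_minusForm, CfsgLib.OrthCrit.polar_plusForm]
      simp [v₀, Pi.single_apply, h2]
      ring
    obtain ⟨b, hb⟩ := exists_sqrt β
    refine ⟨b / (α * s), iff_of_true ?_ hp⟩
    let L : (Fin k → F) × F →ₗ[F] ((Fin k ⊕ Fin k) ⊕ Fin 2 → F) :=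
      { toFun := fun p => Sum.elim (Sum.elim p.1 0) ![0, p.2]
        map_add' := fun u v => by
          funext x
          rcases x with (i | i) | i
          · simp
          · simp
          · fin_cases i <;> simp
        map_smul' := fun c v => by
          funext x
          rcases x with (i | i) | i
          · simp
          · simp
          · fin_cases i <;> simp }
    have hL : Function.Injective L := by
      intro u v h
      refine Prod.ext (funext fun i => ?_) ?_
      · simpa [L] using congrFun h (.inl (.inl i))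
      · simpa [L] using congrFun h (.inr 1)
    refine ⟨LinearMap.range (G.toLinearMap ∘ₗ L), ?_, ?_⟩
    · rintro _ ⟨⟨u, z⟩, rfl⟩
      show shift Q ((b / (α * s)) • w) (G (L (u, z))) = 0
      rw [shift_apply, polar_smul_left, hpol, hG, smul_eq_mul]
      simp only [CfsgLib.OrthCrit.minusForm_apply, Cfsg.quadFormMinus, L, LinearMap.coe_mk,
        AddHom.coe_mk, Sum.elim_inl, Sum.elim_inr, Pi.zero_apply, mul_zero, Finset.sum_const_zero,
        Matrix.cons_val_zero, Matrix.cons_val_one]
      field_simp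
      linear_combination z ^ 2 * hb + β * z ^ 2 * h2
    · rw [LinearMap.finrank_range_of_inj (f := G.toLinearMap ∘ₗ L) (G.injective.comp hL), hdim,
        Module.finrank_prod, Module.finrank_fin_fun, Module.finrank_self]

end CfsgLib.OrthPoints
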